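import Mathlib
import Cfsg.Agent.Lib.MultC.Model
import Cfsg.Agent.Lib.LieModel.O8p2.P.Data

/-! permutation model of degree 120: generators and a stabiliser chain (generated) -/

set_option autoImplicit false
set_option maxRecDepth 100000
set_option Elab.async false

namespace CfsgLib.MultC.O8p2

open CfsgLib.Comput CfsgLib.MultC

noncomputable def u1_0 : Net :=
  Net.cons 1 0x5050000050500000000000000000
  (Net.cons 2 0x300000003000003000000000000000
  (Net.cons 4 0xf00000900000000000000
  (Net.cons 8 0xfb00fd004f004200b200b4000d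
  (Net.cons 16 0xf50000f08a00003f770000c400
  (Net.cons 32 0x4162480000000064000000
  (Net.cons 64 0xd30f8bed206857
  (Net.cons 32 0xca9275000000005d4b86bf
  (Net.cons 16 0x7500009038000082bf0000e4fa
  (Net.cons 8 0x200b400bd0042004b00fd00ff
  (Net.cons 4 0xf0f0f0f0f000300000f0f0f0f00
  (Net.cons 2 0x31330233032030030100313030230
  (Net.cons 1 0x140055015510141414000001004014
  (Net.nil)))))))))))))

noncomputable def u1_1 : Net :=
  Net.cons 1 0x441011105500000011004444550000
  (Net.cons 2 0x333033300003000012302130303030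
  (Net.cons 4 0xc0000000c0000050f0a0f000000
  (Net.cons 8 0xcc002f00100034000c00040008
  (Net.cons 16 0x8f0000e4c1000004200000f800
  (Net.cons 32 0x1d0c2e00000000c0000000
  (Net.cons 64 0x51c3a2f32cfc1c
  (Net.cons 32 0xbc3874000000002c5dc3b2
  (Net.cons 16 0x9600003b610000336d0000fcae
  (Net.cons 8 0x4000c00f700f300e300450024
  (Net.cons 4 0x9060f0a050a09050603060a030506
  (Net.cons 2 0x210311213000031122112203223012
  (Net.cons 1 0x440050005041445544555050500044
  (Net.nil)))))))))))))

noncomputable def u2_0 : Net :=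
  Net.cons 1 0x440000440000000044000044000000
  (Net.cons 2 0x300000303000300000000000000000
  (Net.cons 4 0xf000000000500000000000000
  (Net.cons 8 0xfe003d00ea000100c2000100d6
  (Net.cons 16 0x10000223d0000da0100000800
  (Net.cons 32 0x100150000000014000000
  (Net.cons 64 0x960e8374971cbe
  (Net.cons 32 0xf1faf10000000032f1f0cc
  (Net.cons 16 0xd10000fb0700003ef00000d50e
  (Net.cons 8 0xda000100e6003100e6000d00da
  (Net.cons 4 0xf0f000f0f0f000f0f0f00000f0f00
  (Net.cons 2 0x111132112222102111113222222210
  (Net.cons 1 0x140145015400551144044004010000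
  (Net.nil)))))))))))))

noncomputable def u2_1 : Net :=
  Net.cons 1 0x140014444100414000000040000000
  (Net.cons 2 0x333300030000030033333000000000
  (Net.cons 4 0xf0f00000f0f00000000000000
  (Net.cons 8 0xfc00f300cf003300cc0000000c
  (Net.cons 16 0xfc3000000000000f000
  (Net.cons 32 0xfc30000000000f000000
  (Net.cons 64 0xc303f0cfc3ff00
  (Net.cons 32 0xff33f00000000fff0f0f0
  (Net.cons 16 0xcc330000c33f000030cc
  (Net.cons 8 0xfc0033000c0033003f003000cc
  (Net.cons 4 0x606060f0506060f06060c0a06050c
  (Net.cons 2 0x12213333212100000303333330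
  (Net.cons 1 0x140000141400444144001400004414
  (Net.nil)))))))))))))

noncomputable def u3_0 : Net :=
  Net.cons 1 0x140014444100414000000040000000
  (Net.cons 2 0x3300223300001000000010000000
  (Net.cons 4 0xf0c0f00000f0f050c00000a000000
  (Net.cons 8 0x5d000000990082002500820034
  (Net.cons 16 0xff0000f3000000c10200004000
  (Net.cons 32 0x8000000000000010000000
  (Net.cons 64 0x70fc3c30bc0c3c
  (Net.cons 32 0x26c3a50000000047ea32d8
  (Net.cons 16 0x240000cf180000703f00000efc
  (Net.cons 8 0xe7008a00bd0082003d00e6005c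
  (Net.cons 4 0x1090f0002060f000901010f060204
  (Net.cons 2 0x302230013011032011303321223000
  (Net.cons 1 0x40004044000404044044441000400
  (Net.nil)))))))))))))

noncomputable def u3_1 : Net :=
  Net.cons 1 0x144404415000004400000044000000
  (Net.cons 2 0x12330000001200001200000000
  (Net.cons 4 0xf03000f0f0f0f030c000f00000000
  (Net.cons 8 0xa7005100a4004200af004200a8
  (Net.cons 16 0x8c0000a0500000664000000400
  (Net.cons 32 0xfd5baf0000000060000000
  (Net.cons 64 0xfddbbff9020400
  (Net.cons 32 0x7e3de00000000009f254a0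
  (Net.cons 16 0x2a000096190000d1140000a6f8
  (Net.cons 8 0xa5005000bf005100b4005200a8
  (Net.cons 4 0x90906000606090009090c0306060c
  (Net.cons 2 0x303012300303120303030312303030
  (Net.cons 1 0x101010141001004444000044000000
  (Net.nil)))))))))))))

noncomputable def u4_0 : Net :=
  Net.cons 2 0x333333000000000033333300000000
  (Net.cons 4 0xf0f0f0f0f0f0f0f00000000000000
  (Net.cons 32 0xf000000
  (Net.cons 64 0xf0f0f0fff0f0f0
  (Net.cons 32 0xcccccc000000000fcccccc
  (Net.cons 4 0xf0f0f000f0f0f0f000000
  (Net.cons 2 0x3333330033333300000000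
  (Net.nil)))))))

noncomputable def u4_1 : Net :=
  Net.cons 2 0x333333003333330000000000000000
  (Net.cons 4 0xf0f0f0f0000000f0f0f0f00000000
  (Net.cons 32 0xffffff00000000f0000000
  (Net.cons 64 0xf0f0ff0f0f0f0
  (Net.cons 32 0x3c3c3c00000000003c3c3c
  (Net.cons 4 0x30303000c0c0c000303030f0c0c0c
  (Net.cons 2 0x303030000303030003030300303030
  (Net.nil)))))))

noncomputable def u5_0 : Net :=
  Net.cons 4 0xf0f0f0f0000000f0f0f0f0f000000
  (Net.cons 2 0x333333003333330000000000000000
  (Net.nil))

noncomputable def u5_1 : Net :=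
  Net.cons 64 0xffffffff000000
  (Net.cons 4 0xf0f0f0f000000000f0f0f0f000000
  (Net.cons 2 0x303030000303030003030300303030
  (Net.nil)))

noncomputable def V0 : List Net := [nth Net.nil CfsgLib.LieModel.O8p2.P.W 0, nth Net.nil CfsgLib.LieModel.O8p2.P.W 2]
noncomputable def U0 : List Net := (V0 ++ revL V0)
noncomputable def V1 : List Net := [u1_0, u1_1]
noncomputable def U1 : List Net := U0 ++ (V1 ++ revL V1)
noncomputable def V2 : List Net := [u2_0, u2_1]
noncomputable def U2 : List Net := U1 ++ (V2 ++ revL V2)
noncomputable def V3 : List Net := [u3_0, u3_1]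
noncomputable def U3 : List Net := U2 ++ (V3 ++ revL V3)
noncomputable def V4 : List Net := [u4_0, u4_1]
noncomputable def U4 : List Net := U3 ++ (V4 ++ revL V4)
noncomputable def V5 : List Net := [u5_0, u5_1]
noncomputable def U5 : List Net := U4 ++ (V5 ++ revL V5)
noncomputable def U : List Net := U5

theorem v1 : wordsOK 120 7 U0 V1 [[0x2010201020202], [0x102010401020202030201]] = true := by decide +kernel
theorem v2 : wordsOK 120 7 U1 V2 [[0x708070607060605080707], [0x6070807070708070605]] = true := by decide +kernel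
theorem v3 : wordsOK 120 7 U2 V3 [[0xb0b0c0b0c0c09090909], [0xb0a0909090c0c0c09]] = true := by decide +kernel
theorem v4 : wordsOK 120 7 U3 V4 [[0xf0f0e], [0xf100d0e0f10]] = true := by decide +kernel
theorem v5 : wordsOK 120 7 U4 V5 [[0x1314141312], [0x141413141313]] = true := by decide +kernel

theorem realU {G Ω : Type*} [Group G] [MulAction G Ω] {pt : ℕ → Ω} (h : AllReal G 120 pt V0) :
    AllReal G 120 pt U := by
  have h0 : AllReal G 120 pt U0 := h.append h.rev
  have k1 : AllReal G 120 pt V1 := h0.words (by norm_num) v1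
  have h1 : AllReal G 120 pt U1 := h0.append (k1.append k1.rev)
  have k2 : AllReal G 120 pt V2 := h1.words (by norm_num) v2
  have h2 : AllReal G 120 pt U2 := h1.append (k2.append k2.rev)
  have k3 : AllReal G 120 pt V3 := h2.words (by norm_num) v3
  have h3 : AllReal G 120 pt U3 := h2.append (k3.append k3.rev)
  have k4 : AllReal G 120 pt V4 := h3.words (by norm_num) v4
  have h4 : AllReal G 120 pt U4 := h3.append (k4.append k4.rev)
  have k5 : AllReal G 120 pt V5 := h4.words (by norm_num) v5
  have h5 : AllReal G 120 pt U5 := h4.append (k5.append k5.rev)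
  exact h5

end CfsgLib.MultC.O8p2
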