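import Mathlib
import Cfsg.Agent.Lib.MultC.O8p2.Base

/-! multiplier certificate for the prime 5 (generated) -/

set_option autoImplicit false
set_option maxRecDepth 100000
set_option Elab.async false

namespace CfsgLib.MultC.O8p2.P5

open CfsgLib.Comput CfsgLib.MultC

noncomputable def x0 : Net :=
  Net.cons 1 0x155050504005050055555500000000
  (Net.cons 2 0x213312121233332133120000000000
  (Net.cons 4 0xf03030c0f00000c030c0c00000000
  (Net.cons 8 0x40000400dc001f00d2009700dd
  (Net.cons 16 0x13400000b83c0000c200
  (Net.cons 32 0x4945100000000013000000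
  (Net.cons 64 0x2036bd3fdff123
  (Net.cons 32 0xf6aa510000000055dbe896
  (Net.cons 16 0x40000038d70000c5ff00006510
  (Net.cons 8 0x6c00e700970018000400e700ff
  (Net.cons 4 0xa060a0f060a03000a0f0c090c0909
  (Net.cons 2 0x110022223322031211220330112121
  (Net.cons 1 0x440511410005001111000044005500
  (Net.nil)))))))))))))

noncomputable def x1 : Net :=
  Net.cons 1 0x505500050500000000000000000
  (Net.cons 2 0x203300330033001220330000003300
  (Net.cons 4 0xa0f0f0f0f00000305000000000000
  (Net.cons 8 0xa00089008500f000800010000a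
  (Net.cons 16 0x8700007b610000c03900002e00
  (Net.cons 32 0x48c0ae000000004f000000
  (Net.cons 64 0x29a9415fe056af
  (Net.cons 32 0x926ba00000000f51f8600
  (Net.cons 16 0xbe0000af1000007bcf0000a1d5
  (Net.cons 8 0xe600e6008f00390000008f0039
  (Net.cons 4 0x9030e0c0c09030903090c06090c02
  (Net.cons 2 0x221212112111332012113320222121
  (Net.cons 1 0x115510440505051411500544505551
  (Net.nil)))))))))))))

noncomputable def x2 : Net :=
  Net.cons 1 0x444044000040000044004450000000
  (Net.cons 2 0x300330033030300033333330000000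
  (Net.cons 4 0xa030f0a0503000a03030300000000
  (Net.cons 8 0x800350040000f002100420048
  (Net.cons 16 0xa100004816000096f900000800
  (Net.cons 32 0x4a30020000000021000000
  (Net.cons 64 0x7d5acaff836169
  (Net.cons 32 0x1437eb000000006902b73b
  (Net.cons 16 0xdc0000f5ce00008c81000037cc
  (Net.cons 8 0x960012009400de006900cc003d
  (Net.cons 4 0x90906050303090f0606090a0c0c06
  (Net.cons 2 0x221023222013100021102311231023
  (Net.cons 1 0x44051011114411451450454411411
  (Net.nil)))))))))))))

noncomputable def x3 : Net :=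
  Net.cons 1 0x550455051104110044004400000000
  (Net.cons 2 0x30033210003030200033031030000
  (Net.cons 4 0xf0601030c0e0a000305080b050c00
  (Net.cons 8 0x870052002100c20016005a0006
  (Net.cons 16 0x810000680c000000de00008800
  (Net.cons 32 0x128d680000000046000000
  (Net.cons 64 0x2877c2cfb2faae
  (Net.cons 32 0x63ec940000000065bc034a
  (Net.cons 16 0x550000c4fe0000ad060000c718
  (Net.cons 8 0xce001b008a0094006400a8006e
  (Net.cons 4 0x50d09030e000106050602080f0e0a
  (Net.cons 2 0x20121130101111201022223020212
  (Net.cons 1 0x154415055100510044004400004400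
  (Net.nil)))))))))))))

noncomputable def X : List Net := [x0, x1, x2, x3]

def D : Dat := ⟨3, 2, 4,
  512,
  4, 0x201201,
  0x804453,
  0x1100, 5⟩

def R0 : List (ℕ × List ℕ × List ℕ × List ℕ) := [(0, [0, 1], [1, 0], [19]),
  (0, [1, 1, 1, 1, 1], [], [1, 33]),
  (1, [2, 2, 2, 2, 2], [], [3])]

noncomputable def A : LA := ⟨12, [[82], [51, 83]],
  [], [],
  Dat.sps R0,
  [768,
  3,
  576],
  []⟩

def lv : LB := [(0, 1, [2, 2, 2, 2, 1, 1, 1, 1])]

theorem r0 : D.fusAll 12 R0 = true := by decide +kernel
theorem xw : wordsOK 120 7 U X [[0x102020107080b0b0c090e0e0e16], [0x202020108080809090a0b10100d1212], [0x1020303020206070a090e0e0e1216], [0x5050b0b0c090d100d1411]] = true := by decide +kernel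
theorem c1_0 : allRg (D.rowChk (stepT 120 7 X) (idTab 120 7)) 0 2 = true := by decide +kernel
theorem c2_0 : allRg (D.fusChk (stepT 120 7 X) (idTab 120 7)) 0 4 = true := by decide +kernel
theorem c3 : lbOK 120 X 2 (5 ^ 2) lv = true := by decide +kernel
theorem c4 : D.basicOK A = true := by decide +kernel
theorem c5_0 : allRg (D.rowOK A) 0 2 = true := by decide +kernel

theorem pb {G : Type*} {Ω : Type*} [Group G] [MulAction G Ω] {pt : ℕ → Ω} (M : PModel G 120 pt)
    (h : AllReal G 120 pt V0) (hG : Nat.card G = 174182400) : PBound G 5 [] :=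
  M.pBound (W := X) (k := 7) (D := D) (A := A) ((realU h).words (by norm_num) xw) (by norm_num) (by norm_num) rfl 0 rfl
    (by decide) rfl (by decide) (allRg_zero c1_0) (allRg_zero c2_0) c3 hG
    (by decide +kernel) (D.allGood_fus 12 R0 (by norm_num) r0) c4 (allRg_zero c5_0)

end CfsgLib.MultC.O8p2.P5
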